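import Groth.Agent.Lib.ShStab28.Cmp
import Groth.Agent.Lib.ShStab28.Positive
import Groth.Agent.Lib.AmpleFin18.PushEuler
import Groth.Agent.Lib.AmpleFin18.Proj
import Groth.Agent.Lib.StQC14.FinPushGen
import Groth.Agent.Lib.TensorMod.PullSupport
import Groth.Agent.Lib.Cyc26.PushFin
import Groth.Agent.Lib.RelAmple18.Ops
import Groth.Agent.Lib.RefHull26.Local
import Groth.Agent.Lib.RefHull26.Glue
import Groth.Agent.Lib.H12.Dim
import Groth.Agent.Lib.AlgSpDecent.DimMor

/-!
# Semistability of the direct image along a finite birational map of curves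
-/

set_option autoImplicit false
set_option linter.style.haveILetI false
set_option maxHeartbeats 1000000
set_option synthInstance.maxHeartbeats 80000
set_option backward.isDefEq.respectTransparency false

universe u

open CategoryTheory CategoryTheory.Limits AlgebraicGeometry TopologicalSpace StabCat
open scoped TensorProduct

namespace Groth.Agent.PushStab17

open Groth.Agent

section Stalk

variable {X Y : Scheme.{u}} (π : X ⟶ Y) [UniversallyClosed π]

/-- Stalks of a direct image along a closed map at a point with a single preimage. -/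
theorem bijective_stalkPush (M : X.Modules) (x : X) (h : ∀ z, π z = π x → z = x) :
    Function.Bijective (TopCat.Presheaf.stalkPushforward AddCommGrpCat.{u} π.base M.presheaf x) := by
  have hsmall : ∀ (W : X.Opens), x ∈ W → ∃ V : Y.Opens, π x ∈ V ∧ π ⁻¹ᵁ V ≤ W := fun W hW => by
    refine ⟨⟨(π '' (W : Set X)ᶜ)ᶜ, (π.isClosedMap _ W.2.isClosed_compl).isOpen_compl⟩, ?_, fun z hz => ?_⟩
    · rintro ⟨z, hz, he⟩
      exact hz (h z he ▸ hW)
    · by_contra hzW
      exact hz ⟨z, hzW, rfl⟩
  have hg : ∀ (V : Y.Opens) (hV : π x ∈ V) (s : Γ((Scheme.Modules.pushforward π).obj M, V)),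
      TopCat.Presheaf.stalkPushforward AddCommGrpCat.{u} π.base M.presheaf x
          (((Scheme.Modules.pushforward π).obj M).presheaf.germ V (π x) hV s) =
        M.presheaf.germ (π ⁻¹ᵁ V) x hV s := fun V hV s =>
    ConcreteCategory.congr_hom (TopCat.Presheaf.stalkPushforward_germ AddCommGrpCat.{u} π.base M.presheaf V x hV) s
  refine ⟨(injective_iff_map_eq_zero _).2 fun a ha => ?_, fun b => ?_⟩
  · obtain ⟨V, hV, s, rfl⟩ := ((Scheme.Modules.pushforward π).obj M).presheaf.exists_germ_eq a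
    rw [hg] at ha
    obtain ⟨W, hW, i₁, _, he⟩ := M.presheaf.germ_eq x (show x ∈ π ⁻¹ᵁ V from hV)
      (show x ∈ π ⁻¹ᵁ V from hV) s 0 (ha.trans (map_zero _).symm)
    obtain ⟨V', hV', hle⟩ := hsmall W hW
    rw [← M1.germ_mres ((Scheme.Modules.pushforward π).obj M) (inf_le_left : V ⊓ V' ≤ V) (x := π x) ⟨hV, hV'⟩ s,
      show M1.mres ((Scheme.Modules.pushforward π).obj M) (inf_le_left : V ⊓ V' ≤ V) s = 0 from ?_, map_zero]
    show M.presheaf.map (homOfLE (fun z (hz : z ∈ π ⁻¹ᵁ (V ⊓ V')) => (hz.1 : π z ∈ V))).op s = 0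
    rw [show (homOfLE (fun z (hz : z ∈ π ⁻¹ᵁ (V ⊓ V')) => (hz.1 : π z ∈ V))).op =
        i₁.op ≫ (homOfLE (fun z (hz : z ∈ π ⁻¹ᵁ (V ⊓ V')) => hle hz.2)).op from Subsingleton.elim _ _,
      Functor.map_comp, CategoryTheory.comp_apply, he, map_zero, map_zero]
  · obtain ⟨W, hW, t, rfl⟩ := M.presheaf.exists_germ_eq b
    obtain ⟨V, hV, hle⟩ := hsmall W hW
    refine ⟨((Scheme.Modules.pushforward π).obj M).presheaf.germ V (π x) hV (M1.mres M hle t), ?_⟩
    rw [hg]
    exact M1.germ_mres M hle hV t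

theorem stalkPush_natural {M N : X.Modules} (φ : M ⟶ N) (x : X)
    (a : ((Scheme.Modules.pushforward π).obj M).presheaf.stalk (π x)) :
    (M1.stalkAb x).map φ (TopCat.Presheaf.stalkPushforward AddCommGrpCat.{u} π.base M.presheaf x a) =
      TopCat.Presheaf.stalkPushforward AddCommGrpCat.{u} π.base N.presheaf x
        ((M1.stalkAb (π x)).map ((Scheme.Modules.pushforward π).map φ) a) := by
  obtain ⟨U, hU, s, rfl⟩ := ((Scheme.Modules.pushforward π).obj M).presheaf.exists_germ_eq a
  rw [M1.germ_naturality]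
  erw [TopCat.Presheaf.stalkPushforward_germ_apply, TopCat.Presheaf.stalkPushforward_germ_apply]
  exact M1.germ_naturality φ (π ⁻¹ᵁ U) x hU s

end Stalk

section Curve

variable {X : Scheme.{u}} [IsIntegral X]

theorem dim_support_eq_one (hd : topologicalKrullDim X = 1) {F : X.Modules} (hF : Coh.IsCoh F)
    (h : genericPoint X ∈ CohB1.support F) : topologicalKrullDim (CohB1.support F) = ((1 : ℕ) : WithBot ℕ∞) := by
  have huniv : CohB1.support F = Set.univ := Set.eq_univ_of_forall fun x =>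
    (genericPoint_specializes x).mem_closed (M1.isClosed_support hF.2) h
  rw [huniv, (Homeomorph.Set.univ X).isHomeomorph.topologicalKrullDim_eq, hd]
  rfl

theorem dim_support_le_zero (hd : topologicalKrullDim X = 1) (S : Set X) (hS : IsClosed S) (h : genericPoint X ∉ S) :
    topologicalKrullDim S ≤ ((0 : ℕ) : WithBot ℕ∞) := by
  haveI : QuasiSober S := hS.isClosedEmbedding_subtypeVal.quasiSober
  refine (H12.topologicalKrullDim_le_of_eq_of_specializes (fun _ : S => (PUnit.unit : PUnit.{u+1})) continuous_const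
    fun x x' hs _ => ?_).trans ?_
  · have hx : IsClosed ({x.1} : Set X) :=
      AmpleFin18.isClosed_of_ne_genericPoint hd.le fun he => h (he ▸ x.2)
    exact Subtype.ext ((hs.map continuous_subtype_val).mem_closed hx rfl).symm
  · exact (topologicalKrullDim_zero_of_discreteTopology PUnit.{u+1}).trans (by simp)

end Curve

variable {k : Type u} [Field k] {X X' : Scheme.{u}} [X.Over (Spec (CommRingCat.of k))]
  [X'.Over (Spec (CommRingCat.of k))] (π : X' ⟶ X)

/-- Hilbert polynomials are unchanged by a finite direct image. -/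
theorem hilb_push [IsProper (X ↘ Spec (CommRingCat.of k))] [IsProper (X' ↘ Spec (CommRingCat.of k))] [IsFinite π]
    (hπ : π ≫ (X ↘ Spec (CommRingCat.of k)) = X' ↘ Spec (CommRingCat.of k))
    {L : X.Modules} (hL : PicF.IsInvertible L) (M : X'.Modules) (hM : Coh.IsCoh M) :
    ShStab28.hilb k X L ((Scheme.Modules.pushforward π).obj M) =
      ShStab28.hilb k X' ((Scheme.Modules.pullback π).obj L) M := by
  haveI := VB17.isNoetherian_of_over (k := k) (X := X)
  refine ShStab28.hilb_eq k fun m => ?_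
  rw [← ShStab28.hilb_spec k (PicLoc.isInvertible_pullback π hL) hM m]
  refine congrArg _ ?_
  have hP : PicF.IsInvertible (CohB1.tensorPow L m) := M2.isInvertible_tensorPow hL m
  haveI := AmpleFin18.isIso_projHom π (CohB1.tensorPow L m) M hP
  show Curv2.euler k X (CohB1.tensorMod ((Scheme.Modules.pushforward π).obj M) (CohB1.tensorPow L m)) = _
  rw [CurveCoh17.euler_iso (M2.tensorComm _ _ ≪≫ asIso (AmpleFin18.projHom π (CohB1.tensorPow L m) M)),
    CurveCoh17.euler_iso ((Scheme.Modules.pushforward π).mapIso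
      (M2.tensorIso (M2.pullTensorPowIso π L m) (Iso.refl M) ≪≫ M2.tensorComm _ _))]
  exact AmpleFin18.euler_push π hπ _ (CurveCoh17.isCoh_tensor hM
    (Snapper.isCoh_of_isInvertible (M2.isInvertible_tensorPow (PicLoc.isInvertible_pullback π hL) m))).1

variable [IsIntegral X] [IsIntegral X'] [IsProper (X ↘ Spec (CommRingCat.of k))]
  [IsProper (X' ↘ Spec (CommRingCat.of k))] [IsFinite π] (U : X.Opens) [IsIso (π ∣_ U)]

omit [X.Over (Spec (CommRingCat.of k))] [X'.Over (Spec (CommRingCat.of k))] [IsIntegral X] [IsIntegral X'] [IsFinite π]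
  [IsProper (X ↘ Spec (CommRingCat.of k))] [IsProper (X' ↘ Spec (CommRingCat.of k))] in
theorem exists_unique_preimage {x : X} (hx : x ∈ U) :
    ∃ z, π z = x ∧ (∀ w, π w = π z → w = z) ∧ Function.Surjective (π.stalkMap z) := by
  obtain ⟨z, hz⟩ := (π ∣_ U).homeomorph.surjective (⟨x, hx⟩ : U)
  have hzx : π z.1 = x := by
    have h := congrArg Subtype.val (show (π ∣_ U) z = (⟨x, hx⟩ : U) from hz)
    rwa [morphismRestrict_base_coe] at h
  refine ⟨z.1, hzx, fun w hw => ?_, ?_⟩
  · have hwU : w ∈ π ⁻¹ᵁ U := show π w ∈ U by rw [hw]; exact z.2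
    have he : (π ∣_ U) ⟨w, hwU⟩ = (π ∣_ U) z := Subtype.ext (by
      rw [morphismRestrict_base_coe, morphismRestrict_base_coe]; exact hw)
    exact congrArg Subtype.val ((π ∣_ U).homeomorph.injective he)
  · haveI : IsIso ((π ∣_ U).stalkMap z) := inferInstance
    have e := morphismRestrictStalkMap π U z
    have hiso : IsIso (π.stalkMap z.1) :=
      ((MorphismProperty.isomorphisms CommRingCat).arrow_mk_iso_iff e).1
        ((MorphismProperty.isomorphisms.iff _).2 inferInstance) |> (MorphismProperty.isomorphisms.iff _).1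
    exact (ConcreteCategory.bijective_of_isIso (π.stalkMap z.1)).2

/-- The data of the induced submodule upstairs. -/
theorem exists_induced [IsNoetherian X'] {E : X'.Modules} (hE : Coh.IsCoh E) {F : X.Modules} (hF : Coh.IsCoh F)
    (ι : F ⟶ (Scheme.Modules.pushforward π).obj E) [Mono ι] :
    ∃ (F' : X'.Modules) (j : F' ⟶ E) (v : F ⟶ (Scheme.Modules.pushforward π).obj F'), Mono j ∧ Mono v ∧
      Coh.IsCoh F' ∧ v ≫ (Scheme.Modules.pushforward π).map j = ι ∧
      CohB1.support F' ⊆ π ⁻¹' CohB1.support F ∧ ∀ x ∈ U, x ∉ CohB1.support (cokernel v) := by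
  let adj := Scheme.Modules.pullbackPushforwardAdjunction π
  let φ := (adj.homEquiv F E).symm ι
  let F' := Abelian.image φ
  have hPc : Coh.IsCoh ((Scheme.Modules.pullback π).obj F) := M1.isCoh_pullback π hF
  have hF'q : Coh.IsQCoh F' := M1.isQCoh_kernel hE.1 (M1.isQCoh_cokernel hPc.1 hE.1 φ) (cokernel.π φ)
  have hF' : Coh.IsCoh F' := ⟨hF'q, M1.isFT_of_epi (Abelian.factorThruImage φ) hPc.2⟩
  let v : F ⟶ (Scheme.Modules.pushforward π).obj F' :=
    adj.unit.app F ≫ (Scheme.Modules.pushforward π).map (Abelian.factorThruImage φ)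
  have hv : v ≫ (Scheme.Modules.pushforward π).map (Abelian.image.ι φ) = ι := by
    rw [Category.assoc, ← Functor.map_comp, Abelian.image.fac, ← Adjunction.homEquiv_unit]
    exact Equiv.apply_symm_apply _ _
  haveI : Mono (v ≫ (Scheme.Modules.pushforward π).map (Abelian.image.ι φ)) := hv.symm ▸ ‹Mono ι›
  haveI : Mono v := mono_of_mono v ((Scheme.Modules.pushforward π).map (Abelian.image.ι φ))
  refine ⟨F', Abelian.image.ι φ, v, inferInstance, inferInstance, hF', hv, fun z hz => ?_, fun x hx => ?_⟩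
  · rw [← M2.support_pullback π hF.1 hF.2]
    obtain ⟨a, ha⟩ := (M1.mem_support_iff F' z).1 hz
    obtain ⟨b, hb⟩ := (M1.epi_iff_stalk (Abelian.factorThruImage φ)).1 inferInstance z a
    refine (M1.mem_support_iff _ z).2 ⟨b, fun h0 => ha ?_⟩
    rw [← hb, h0, map_zero]
  obtain ⟨z, rfl, huniq, hsurj⟩ := exists_unique_preimage π U hx
  rw [M1.notMem_support_iff]
  intro q
  have hq : Function.Surjective ((M1.stalkAb (π z)).map v) := fun b => by
    obtain ⟨c, hc⟩ := (M1.epi_iff_stalk (Abelian.factorThruImage φ)).1 inferInstance z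
      (TopCat.Presheaf.stalkPushforward AddCommGrpCat.{u} π.base F'.presheaf z b)
    obtain ⟨d, rfl⟩ := (M2.pullStalkEquiv π z F).surjective c
    have hd : ∀ d : M2.BC π z F, ∃ a, d = 1 ⊗ₜ a := fun d => by
      induction d using TensorProduct.induction_on with
      | zero => exact ⟨0, (TensorProduct.tmul_zero _ _).symm⟩
      | tmul r a =>
        obtain ⟨r, rfl⟩ := hsurj r
        exact ⟨r • a, by rw [TensorProduct.tmul_smul, TensorProduct.smul_tmul', Algebra.smul_def, mul_one]; rfl⟩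
      | add a b ha hb =>
        obtain ⟨a, rfl⟩ := ha
        obtain ⟨b, rfl⟩ := hb
        exact ⟨a + b, (TensorProduct.tmul_add _ _ _).symm⟩
    obtain ⟨a, rfl⟩ := hd d
    refine ⟨a, (bijective_stalkPush π F' z huniq).1 ?_⟩
    rw [← hc, Functor.map_comp, CategoryTheory.comp_apply]
    refine (stalkPush_natural π (Abelian.factorThruImage φ) z _).symm.trans ?_
    refine congrArg ((M1.stalkAb z).map (Abelian.factorThruImage φ)) ?_
    show _ = M2.pullStalkMap π z F (1 ⊗ₜ a)
    rw [M2.pullStalkMap, LinearMap.liftBaseChange_one_tmul]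
    rfl
  obtain ⟨b, rfl⟩ := (M1.epi_iff_stalk (cokernel.π v)).1 inferInstance (π z) q
  obtain ⟨a, rfl⟩ := hq b
  rw [← CategoryTheory.comp_apply, ← Functor.map_comp, cokernel.condition]
  show (M1.stalkAb (π z)).map (0 : F ⟶ cokernel v) a = 0
  rw [Functor.map_zero]
  rfl

variable (hπ : π ≫ (X ↘ Spec (CommRingCat.of k)) = X' ↘ Spec (CommRingCat.of k))
  (hd : topologicalKrullDim X = 1) (hd' : topologicalKrullDim X' = 1) (hπη : π (genericPoint X') = genericPoint X)
  (hU : (U : Set X).Nonempty) {L : X.Modules} (hL : CohB1.IsAmple L)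

include hd hd' hπη hπ hU hL in
/-- The numerical content. -/
theorem compare {E : X'.Modules} (hE : Coh.IsCoh E) (hpE : ShStab.IsPure X' E 1) :
    (IsZero ((Scheme.Modules.pushforward π).obj E) ↔ IsZero E) ∧ Coh.IsCoh ((Scheme.Modules.pushforward π).obj E) ∧
    ShStab.IsPure X ((Scheme.Modules.pushforward π).obj E) 1 ∧
    (StabCat.IsSS Coh.IsCoh (ShStab.IsHilbPoly k X' ((Scheme.Modules.pullback π).obj L)) 1 E ↔
      StabCat.IsSS Coh.IsCoh (ShStab.IsHilbPoly k X L) 1 ((Scheme.Modules.pushforward π).obj E)) ∧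
    (StabCat.IsSt Coh.IsCoh (ShStab.IsHilbPoly k X' ((Scheme.Modules.pullback π).obj L)) 1 E ↔
      StabCat.IsSt Coh.IsCoh (ShStab.IsHilbPoly k X L) 1 ((Scheme.Modules.pushforward π).obj E)) := by
  haveI := VB17.isNoetherian_of_over (k := k) (X := X)
  haveI := VB17.isNoetherian_of_over (k := k) (X := X')
  let P := Scheme.Modules.pushforward π
  let L' := (Scheme.Modules.pullback π).obj L
  have hL' : PicF.IsInvertible L' := PicLoc.isInvertible_pullback π hL.1
  have hampL' : CohB1.IsAmple L' := RA.isAmple_pullback_of_quasiAffine π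
    (fun V hV => by haveI : IsAffine (π ⁻¹ᵁ V : Scheme.{u}) := hV.preimage π; infer_instance) hL
  have hpos := ShStab28.positive k hL
  have hpos' := ShStab28.positive k hampL'
  have hH : ∀ M : X'.Modules, Coh.IsCoh M → ShStab28.hilb k X L (P.obj M) = ShStab28.hilb k X' L' M :=
    fun M hM => hilb_push π hπ hL.1 M hM
  have hcoh : Coh.IsCoh (P.obj E) := Cyc26.isCoh_push_finite π hE
  haveI : P.PreservesMonomorphisms :=
    haveI := (Scheme.Modules.pullbackPushforwardAdjunction π).isRightAdjoint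
    inferInstance
  have hcokpos : ∀ {F G : X.Modules}, Coh.IsCoh F → Coh.IsCoh G → ∀ v : F ⟶ G, Mono v → ¬ IsIso v →
      ShStab28.hilb k X L G = ShStab28.hilb k X L F + ShStab28.hilb k X L (cokernel v) ∧
        0 < (ShStab28.hilb k X L (cokernel v)).leadingCoeff := by
    intro F G hF hG v hv hiso
    haveI := hv
    have hQ : Coh.IsCoh (cokernel v) := M1.isCoh_cokernel hF.1 hG v
    have hQ0 : ¬ IsZero (cokernel v) := fun h => hiso (by
      haveI : Epi v := Preadditive.epi_of_isZero_cokernel v h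
      exact isIso_of_mono_of_epi v)
    obtain ⟨d, hdim⟩ := ShStab28.exists_dim_supp k hQ hQ0
    exact ⟨ShStab28.hilb_add k hL.1 (S := ShortComplex.mk v (cokernel.π v) (cokernel.condition v))
      { exact := ShortComplex.exact_cokernel v } hF hG hQ, (hpos _ hQ d hdim).2⟩
  -- the induced submodule
  have hind : ∀ (F : X.Modules) (ι : F ⟶ P.obj E), Mono ι → Coh.IsCoh F → ¬ IsZero F →
      topologicalKrullDim (CohB1.support F) = ((1 : ℕ) : WithBot ℕ∞) ∧
      ∃ (F' : X'.Modules) (j : F' ⟶ E) (T : Polynomial ℚ), Mono j ∧ Coh.IsCoh F' ∧ ¬ IsZero F' ∧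
        ShStab28.hilb k X' L' F' = ShStab28.hilb k X L F + T ∧ alpha 1 T = 0 ∧ 0 ≤ T.leadingCoeff ∧
        (IsIso j → ¬ IsIso ι → 0 < T.leadingCoeff) := by
    intro F ι hι hF hF0
    haveI := hι
    obtain ⟨F', j, v, hj, hv, hF', hfac, hsub, hout⟩ := exists_induced π U hE hF ι
    have hF'0 : ¬ IsZero F' := fun h => hF0 (by
      refine IsZero.of_mono_eq_zero ι ?_
      rw [← hfac, h.eq_of_src j 0, Functor.map_zero, comp_zero])
    have hF'd := hpE F' j hj hF' hF'0
    have hη : genericPoint X' ∈ CohB1.support F' := by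
      by_contra hn
      have h0 := dim_support_le_zero hd' _ (M1.isClosed_support hF'.2) hn
      rw [hF'd] at h0
      exact absurd (Nat.cast_le.1 (WithBot.coe_le_coe.1 h0)) (by omega)
    refine ⟨dim_support_eq_one hd hF (hπη ▸ hsub hη), F', j, ShStab28.hilb k X L (cokernel v), hj, hF', hF'0, ?_⟩
    have hG : Coh.IsCoh (P.obj F') := Cyc26.isCoh_push_finite π hF'
    have hQ : Coh.IsCoh (cokernel v) := M1.isCoh_cokernel hF.1 hG v
    have hadd : ShStab28.hilb k X' L' F' = ShStab28.hilb k X L F + ShStab28.hilb k X L (cokernel v) := by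
      rw [← hH F' hF']
      exact ShStab28.hilb_add k hL.1 (S := ShortComplex.mk v (cokernel.π v) (cokernel.condition v))
        { exact := ShortComplex.exact_cokernel v } hF hG hQ
    refine ⟨hadd, ?_, ?_, fun hjiso hιiso => ?_⟩
    · have hgen : genericPoint X ∈ U := (genericPoint_spec X).mem_open_set_iff U.isOpen |>.mpr (by simpa using hU)
      exact ShStab28.alpha_eq_zero_of_lt (lt_of_le_of_lt (ShStab28.natDegree_hilb_le k hL.1 hQ
        (dim_support_le_zero hd _ (M1.isClosed_support hQ.2) (hout _ hgen))) Nat.zero_lt_one)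
    · by_cases h0 : IsIso v
      · have hz : IsZero (cokernel v) := isZero_cokernel_of_epi v
        rw [show ShStab28.hilb k X L (cokernel v) = 0 from ShStab28.Sys.hp_zero (ShStab28.sys k X L hL.1 hpos) hz]
        simp
      · exact (hcokpos hF hG v hv h0).2.le
    · refine (hcokpos hF hG v hv fun h0 => hιiso ?_).2
      rw [← hfac]
      infer_instance
  have hz : IsZero (P.obj E) ↔ IsZero E := by
    refine ⟨fun h => by_contra fun h0 => ?_, fun h => P.map_isZero h⟩
    obtain ⟨h1, h2⟩ := hpos' E hE 1 (hpE E (𝟙 E) inferInstance hE h0)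
    rw [← hH E hE, show ShStab28.hilb k X L (P.obj E) = 0 from
      ShStab28.Sys.hp_zero (ShStab28.sys k X L hL.1 hpos) h, Polynomial.natDegree_zero] at h1
    exact absurd h1 (by omega)
  have hup : ∀ (F' : X'.Modules) (j : F' ⟶ E), Mono j → Coh.IsCoh F' → ¬ IsZero F' → ¬ IsIso j →
      Mono (P.map j) ∧ Coh.IsCoh (P.obj F') ∧ ¬ IsZero (P.obj F') ∧ ¬ IsIso (P.map j) := by
    intro F' j hj hF' hF'0 hiso
    haveI := hj
    have hQ : Coh.IsCoh (cokernel j) := M1.isCoh_cokernel hF'.1 hE j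
    obtain ⟨h1, h2⟩ := hpos' F' hF' 1 (hpE F' j hj hF' hF'0)
    refine ⟨inferInstance, Cyc26.isCoh_push_finite π hF', fun h => ?_, fun h => hiso ?_⟩
    · rw [← hH F' hF', show ShStab28.hilb k X L (P.obj F') = 0 from
        ShStab28.Sys.hp_zero (ShStab28.sys k X L hL.1 hpos) h, Polynomial.natDegree_zero] at h1
      exact absurd h1 (by omega)
    · by_contra hni
      have hQ0 : ¬ IsZero (cokernel j) := fun h0 => hni (by
        haveI : Epi j := Preadditive.epi_of_isZero_cokernel j h0
        exact isIso_of_mono_of_epi j)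
      obtain ⟨d, hdim⟩ := ShStab28.exists_dim_supp k hQ hQ0
      have hadd : ShStab28.hilb k X' L' E = ShStab28.hilb k X' L' F' + ShStab28.hilb k X' L' (cokernel j) :=
        ShStab28.hilb_add k hL' (S := ShortComplex.mk j (cokernel.π j) (cokernel.condition j))
          { exact := ShortComplex.exact_cokernel j } hF' hE hQ
      rw [← hH E hE, ShStab28.hilb_iso k hL.1 (@asIso _ _ _ _ _ h) (Cyc26.isCoh_push_finite π hF'), hH F' hF'] at hadd
      have := (hpos' _ hQ d hdim).2
      rw [show ShStab28.hilb k X' L' (cokernel j) = 0 by linear_combination -hadd] at this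
      simp at this
  have halpha : ∀ {M : X'.Modules} (hM : Coh.IsCoh M) (i : M ⟶ E), Mono i → ¬ IsZero M →
      0 < alpha 1 (ShStab28.hilb k X' L' M) := fun hM i hi h0 =>
    let h := hpos' _ hM 1 (hpE _ i hi hM h0)
    ShStab28.alpha_pos h.1 h.2
  refine ⟨hz, hcoh, fun F ι hι hF hF0 => (hind F ι hι hF hF0).1, ⟨fun h => ?_, fun h => ?_⟩, ⟨fun h => ?_, fun h => ?_⟩⟩
  · intro F ι hι hF hF0 hiso pF pE hpF hpE'
    obtain ⟨-, F', j, T, hj, hF', hF'0, hT, hT0, hTl, -⟩ := hind F ι hι hF hF0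
    rw [(ShStab28.isHilbPoly_iff k hL.1 hF).1 hpF, (ShStab28.isHilbPoly_iff k hL.1 hcoh).1 hpE', hH E hE]
    refine ShStab28.redLE_of_sat hT0 hTl (halpha hE (𝟙 E) inferInstance (fun h0 => hF'0 (IsZero.of_mono j h0))).le ?_
    rw [← hT]
    by_cases hji : IsIso j
    · rw [ShStab28.hilb_iso k hL' (asIso j) hF']
      exact ShStab28.redEq_le (ShStab28.redEq_refl _ _)
    · exact h F' j hj hF' hF'0 hji _ _ (ShStab28.hilb_spec k hL' hF') (ShStab28.hilb_spec k hL' hE)
  · intro F' j hj hF' hF'0 hiso pF pE hpF hpE'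
    obtain ⟨h1, h2, h3, h4⟩ := hup F' j hj hF' hF'0 hiso
    have := h (P.obj F') (P.map j) h1 h2 h3 h4 _ _ (ShStab28.hilb_spec k hL.1 h2) (ShStab28.hilb_spec k hL.1 hcoh)
    rwa [hH F' hF', hH E hE, ← (ShStab28.isHilbPoly_iff k hL' hF').1 hpF,
      ← (ShStab28.isHilbPoly_iff k hL' hE).1 hpE'] at this
  · intro F ι hι hF hF0 hiso pF pE hpF hpE'
    obtain ⟨hdim, F', j, T, hj, hF', hF'0, hT, hT0, hTl, hTpos⟩ := hind F ι hι hF hF0
    rw [(ShStab28.isHilbPoly_iff k hL.1 hF).1 hpF, (ShStab28.isHilbPoly_iff k hL.1 hcoh).1 hpE', hH E hE]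
    by_cases hji : IsIso j
    · rw [ShStab28.hilb_iso k hL' (asIso j) hF', hT]
      obtain ⟨p1, p2⟩ := hpos F hF 1 hdim
      exact ShStab28.redLT_self_add (ShStab28.alpha_pos p1 p2) (hTpos hji hiso) hT0
    · refine ShStab28.redLT_of_sat hT0 hTl (halpha hE (𝟙 E) inferInstance (fun h0 => hF'0 (IsZero.of_mono j h0))).le ?_
      rw [← hT]
      exact h F' j hj hF' hF'0 hji _ _ (ShStab28.hilb_spec k hL' hF') (ShStab28.hilb_spec k hL' hE)
  · intro F' j hj hF' hF'0 hiso pF pE hpF hpE'
    obtain ⟨h1, h2, h3, h4⟩ := hup F' j hj hF' hF'0 hiso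
    have := h (P.obj F') (P.map j) h1 h2 h3 h4 _ _ (ShStab28.hilb_spec k hL.1 h2) (ShStab28.hilb_spec k hL.1 hcoh)
    rwa [hH F' hF', hH E hE, ← (ShStab28.isHilbPoly_iff k hL' hF').1 hpF,
      ← (ShStab28.isHilbPoly_iff k hL' hE).1 hpE'] at this

omit [IsProper (X' ↘ Spec (CommRingCat.of k))] in
include hd' in
/-- Locally free modules on an integral curve are pure. -/
theorem isPure_of_finLocFree {E : X'.Modules} {n : ℕ} (hE : FlatMod.IsFinLocFreeOfRank n E) (hEc : Coh.IsCoh E) :
    ShStab.IsPure X' E 1 := by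
  intro F i hi hF hF0
  refine dim_support_eq_one hd' hF ?_
  obtain ⟨x, hx⟩ : (CohB1.support F).Nonempty :=
    Set.nonempty_iff_ne_empty.2 fun h => hF0 (Snapper.isZero_of_support_empty h)
  obtain ⟨a, ha⟩ := (M1.mem_support_iff F x).1 hx
  refine (M1.mem_support_iff F _).2 ⟨F.presheaf.stalkSpecializes (RH26.gsp x) a, fun h0 => ha ?_⟩
  obtain ⟨eq⟩ := CurveCoh17.nonempty_stalk_equiv hE x
  haveI : Module.IsTorsionFree (X'.presheaf.stalk x) (E.presheaf.stalk x) :=
    eq.injective.moduleIsTorsionFree eq fun r v => map_smul eq r v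
  have hinj : Function.Injective (RefHull.stalkMapₗ i x) := (M1.mono_iff_stalk i).1 hi x
  refine hinj (RH26.injective_sp_of_isTorsionFree hEc.1 x ?_)
  rw [RH26.stalkMapₗ_stalkSpecializes, h0, map_zero, map_zero, map_zero]

end Groth.Agent.PushStab17
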