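import Groth.Agent.Lib.PushStab17.Basic
import Groth.Agent.S1585

/-!
# The normalization of an integral curve as a finite birational map
-/

set_option autoImplicit false
set_option linter.style.haveILetI false

universe u

open CategoryTheory CategoryTheory.Limits AlgebraicGeometry TopologicalSpace

namespace Groth.Agent.PushStab17

open Groth.Agent

/-- The facts about the normalization used in the comparison. -/
theorem normalization_data (k : Type u) [Field k] (X : Scheme.{u}) [X.Over (Spec (CommRingCat.of k))] [IsIntegral X]
    [IsProper (X ↘ Spec (CommRingCat.of k))] (hdim : topologicalKrullDim X = 1)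
    [QuasiCompact (X.fromSpecStalk (genericPoint X))] [QuasiSeparated (X.fromSpecStalk (genericPoint X))] :
    IsFinite (Curv2.normalizationι X) ∧ IsProper (Curv2.normalizationι X ≫ X ↘ Spec (CommRingCat.of k)) ∧
    (∃ U : X.Opens, (U : Set X).Nonempty ∧ IsIso (Curv2.normalizationι X ∣_ U)) ∧
    ∃ _ : IsIntegral (Curv2.normalization X), topologicalKrullDim (Curv2.normalization X) = 1 ∧
      (Curv2.normalizationι X) (genericPoint (Curv2.normalization X)) = genericPoint X := by
  obtain ⟨hfin, hdom, hV, hint, -⟩ := S1585.result k X
  haveI := hfin
  haveI := hint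
  let ν := Curv2.normalizationι X
  have hrange : Set.range ν = Set.univ := by
    rw [← (ν.isClosedMap.isClosed_range).closure_eq]
    exact ν.denseRange.closure_range
  have hsurj : Function.Surjective ν := Set.range_eq_univ.1 hrange
  refine ⟨hfin, inferInstanceAs (IsProper (ν ≫ X ↘ Spec (CommRingCat.of k))), hV, hint, le_antisymm ?_ ?_, ?_⟩
  · exact (AlgSpDecent.topologicalKrullDim_le_of_lqf ν).trans hdim.le
  · exact hdim.ge.trans (H12.topologicalKrullDim_le_of_surjective_of_lift ν hsurj
      (Or.inl ν.isClosedMap.specializingMap))
  · have h := (genericPoint_spec (Curv2.normalization X)).image ν.continuous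
    rw [Set.image_univ, hrange, closure_univ] at h
    exact h.eq (genericPoint_spec X)

end Groth.Agent.PushStab17
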